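import Mathlib
import Cfsg.Agent.Helper1.WielandtCrit

set_option autoImplicit false

/-!
Generalised zipper lemma, part 1: subgroups `H ≥ A` in which `A` is contranormal
(`H` is the normal closure of `A` in `H`), in lattice-theoretic form.
-/

namespace Cfsg.Agent.Helper9.GenZipper

open scoped Pointwise
open Cfsg.Agent.Helper1 Cfsg.Agent.Helper3

universe u

variable {G : Type u} [Group G]

/-- `A ≤ H` and the only subgroup of `H` containing `A` and normalised by `H` is `H`. -/
def Contra (A H : Subgroup G) : Prop :=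
  A ≤ H ∧ ∀ N : Subgroup G, A ≤ N → N ≤ H → H ≤ Subgroup.normalizer (N : Set G) → H ≤ N

theorem contra_self (A : Subgroup G) : Contra A A :=
  ⟨le_rfl, fun _ hAN _ _ => hAN⟩

theorem contra_iff_normalClosure {A H : Subgroup G} (hAH : A ≤ H) :
    Subgroup.normalClosure ((A.subgroupOf H : Subgroup ↥H) : Set ↥H) = ⊤ ↔ Contra A H := by
  constructor
  · intro h
    refine ⟨hAH, fun N hAN hNH hHN => ?_⟩
    have hn : (N.subgroupOf H).Normal :=
      (Subgroup.normal_subgroupOf_iff_le_normalizer hNH).2 hHN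
    have hle : Subgroup.normalClosure ((A.subgroupOf H : Subgroup ↥H) : Set ↥H) ≤ N.subgroupOf H := by
      apply Subgroup.normalClosure_le_normal
      intro x hx
      exact hAN hx
    rw [h, top_le_iff, Subgroup.subgroupOf_eq_top] at hle
    exact hle
  · intro h
    set N' := Subgroup.normalClosure ((A.subgroupOf H : Subgroup ↥H) : Set ↥H) with hN'
    have hN'n : N'.Normal := Subgroup.normalClosure_normal
    have h1 : A ≤ N'.map H.subtype := by
      intro a ha
      refine ⟨⟨a, hAH ha⟩, ?_, rfl⟩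
      apply Subgroup.subset_normalClosure
      exact ha
    have h2 := h.2 (N'.map H.subtype) h1 (Subgroup.map_subtype_le N')
      (le_normalizer_map_subtype N' hN'n)
    rw [eq_top_iff]
    intro x _
    obtain ⟨y, hy, hyx⟩ := h2 x.2
    have : y = x := Subtype.ext hyx
    rwa [← this]

theorem contra_top_of_normalClosure {A : Subgroup G}
    (h : Subgroup.normalClosure (A : Set G) = ⊤) : Contra A ⊤ := by
  refine ⟨le_top, fun N hAN _ hN => ?_⟩
  have hn : N.Normal := Subgroup.normalizer_eq_top_iff.1 (top_le_iff.1 hN)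
  rw [← h]
  exact Subgroup.normalClosure_le_normal hAN

theorem Contra.mono_left {A B H : Subgroup G} (h : Contra A H) (hAB : A ≤ B) (hBH : B ≤ H) :
    Contra B H :=
  ⟨hBH, fun N hBN hNH hHN => h.2 N (hAB.trans hBN) hNH hHN⟩

/-- transitivity -/
theorem Contra.trans {A S Z : Subgroup G} (h1 : Contra A S) (h2 : Contra S Z) : Contra A Z := by
  refine ⟨h1.1.trans h2.1, fun N hAN hNZ hZN => ?_⟩
  apply h2.2 N ?_ hNZ hZN
  have h3 := h1.2 (S ⊓ N) (le_inf h1.1 hAN) inf_le_left ?_
  · exact h3.trans inf_le_right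
  · exact le_normalizer_inf Subgroup.le_normalizer (h2.1.trans hZN)

/-- the join of a family of subgroups in which `A` is contranormal -/
theorem contra_sSup {A : Subgroup G} (𝓗 : Set (Subgroup G)) (hne : 𝓗.Nonempty)
    (h : ∀ H ∈ 𝓗, Contra A H) : Contra A (sSup 𝓗) := by
  obtain ⟨H₀, hH₀⟩ := hne
  refine ⟨(h H₀ hH₀).1.trans (le_sSup hH₀), fun N hAN _ hLN => ?_⟩
  apply sSup_le
  intro H hH
  have h3 := (h H hH).2 (H ⊓ N) (le_inf (h H hH).1 hAN) inf_le_left ?_
  · exact h3.trans inf_le_right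
  · exact le_normalizer_inf Subgroup.le_normalizer ((le_sSup hH).trans hLN)

theorem conj_smul_le_conj_smul {A B : Subgroup G} (g : G) (h : A ≤ B) :
    MulAut.conj g • A ≤ MulAut.conj g • B := by
  intro x hx
  rw [mem_conj_smul] at hx ⊢
  exact h hx

theorem conj_smul_le_iff {A B : Subgroup G} (g : G) :
    MulAut.conj g • A ≤ B ↔ A ≤ MulAut.conj g⁻¹ • B := by
  constructor
  · intro h
    have := conj_smul_le_conj_smul g⁻¹ h
    rwa [smul_smul, ← map_mul, inv_mul_cancel, map_one, one_smul] at this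
  · intro h
    have := conj_smul_le_conj_smul g h
    rwa [smul_smul, ← map_mul, mul_inv_cancel, map_one, one_smul] at this

theorem conj_inv_smul_conj_smul (g : G) (A : Subgroup G) :
    MulAut.conj g⁻¹ • MulAut.conj g • A = A := by
  rw [smul_smul, ← map_mul, inv_mul_cancel, map_one, one_smul]

theorem conj_smul_conj_inv_smul (g : G) (A : Subgroup G) :
    MulAut.conj g • MulAut.conj g⁻¹ • A = A := by
  rw [smul_smul, ← map_mul, mul_inv_cancel, map_one, one_smul]

theorem conj_smul_top (g : G) : MulAut.conj g • (⊤ : Subgroup G) = ⊤ := by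
  rw [eq_top_iff]
  intro x _
  rw [mem_conj_smul]
  trivial

theorem conj_smul_ne_top {A : Subgroup G} (g : G) (h : A ≠ ⊤) : MulAut.conj g • A ≠ ⊤ := by
  intro h1
  apply h
  have h2 : MulAut.conj g⁻¹ • MulAut.conj g • A = MulAut.conj g⁻¹ • (⊤ : Subgroup G) := by
    rw [h1]
  rwa [conj_inv_smul_conj_smul, conj_smul_top] at h2

/-- conjugation invariance -/
theorem Contra.conj {A H : Subgroup G} (h : Contra A H) (g : G) :
    Contra (MulAut.conj g • A) (MulAut.conj g • H) := by
  refine ⟨conj_smul_le_conj_smul g h.1, fun N hAN hNH hHN => ?_⟩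
  rw [conj_smul_le_iff] at hAN ⊢
  have h1 : MulAut.conj g⁻¹ • N ≤ H := by
    have := conj_smul_le_conj_smul g⁻¹ hNH
    rwa [conj_inv_smul_conj_smul] at this
  apply h.2 _ hAN h1
  rw [normalizer_conj_smul, ← conj_smul_le_iff]
  exact hHN

/-- A subnormal subgroup of `Z` containing `A`, where `A` is contranormal in `Z`, contains `Z`. -/
theorem Contra.le_of_relSubnormal {A Z S : Subgroup G} (hc : Contra A Z) (hAS : A ≤ S)
    (h : (S.subgroupOf Z).IsSubnormal) : Z ≤ S := by
  rcases h.lt_normal with h1 | ⟨K, hKn, hSK, hKtop⟩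
  · exact Subgroup.subgroupOf_eq_top.1 h1
  · exfalso
    have h1 : A ≤ K.map Z.subtype := by
      intro a ha
      exact ⟨⟨a, hc.1 ha⟩, hSK (show (⟨a, hc.1 ha⟩ : ↥Z) ∈ S.subgroupOf Z from hAS ha), rfl⟩
    have h2 := hc.2 (K.map Z.subtype) h1 (Subgroup.map_subtype_le K)
      (le_normalizer_map_subtype K hKn)
    apply hKtop.ne
    rw [eq_top_iff]
    intro x _
    obtain ⟨y, hy, hyx⟩ := h2 x.2
    have : y = x := Subtype.ext hyx
    rwa [← this]

/-- Every `X ≥ A` has a subnormal subgroup `S ≥ A` in which `A` is contranormal. -/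
theorem exists_contra_relSubnormal [Finite G] {A X : Subgroup G} (hAX : A ≤ X) :
    ∃ S : Subgroup G, A ≤ S ∧ S ≤ X ∧ (S.subgroupOf X).IsSubnormal ∧ Contra A S := by
  let 𝒯 : Set (Subgroup G) := {S | A ≤ S ∧ S ≤ X ∧ (S.subgroupOf X).IsSubnormal}
  have hX : X ∈ 𝒯 := ⟨hAX, le_rfl, by
    rw [Subgroup.subgroupOf_self]; exact Subgroup.IsSubnormal.top⟩
  obtain ⟨S, -, hSmin⟩ := (Set.toFinite 𝒯).exists_le_minimal hX
  refine ⟨S, hSmin.1.1, hSmin.1.2.1, hSmin.1.2.2, hSmin.1.1, fun N hAN hNS hSN => ?_⟩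
  have hn : (N.subgroupOf S).Normal :=
    (Subgroup.normal_subgroupOf_iff_le_normalizer hNS).2 hSN
  have hN𝒯 : N ∈ 𝒯 := ⟨hAN, hNS.trans hSmin.1.2.1,
    relSubnormal_trans hNS hSmin.1.2.1 hn.isSubnormal hSmin.1.2.2⟩
  exact hSmin.2 hN𝒯 hNS

end Cfsg.Agent.Helper9.GenZipper
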