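import Mathlib
import Cfsg.Agent.Helper9.GenZipper.Basic

set_option autoImplicit false

/-!
Generalised zipper lemma, part 2: a counterexample `A` of maximal order in a fixed group.
-/

namespace Cfsg.Agent.Helper9.GenZipper

open scoped Pointwise
open Cfsg.Agent.Helper1 Cfsg.Agent.Helper3

universe u

variable {G : Type u} [Group G]

theorem isCoatom_conj_smul {M : Subgroup G} (hM : IsCoatom M) (g : G) :
    IsCoatom (MulAut.conj g • M) := by
  refine ⟨conj_smul_ne_top g hM.1, fun b hb => ?_⟩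
  have h1 : M ≤ MulAut.conj g⁻¹ • b := (conj_smul_le_iff g).1 hb.le
  have h2 : M ≠ MulAut.conj g⁻¹ • b := by
    intro h
    apply hb.ne
    rw [h, conj_smul_conj_inv_smul]
  have h3 := hM.2 _ (lt_of_le_of_ne h1 h2)
  by_contra hbt
  exact conj_smul_ne_top g⁻¹ hbt h3

/-- proper subgroups in which `A` is contranormal -/
def HSet (A : Subgroup G) : Set (Subgroup G) := {H | H ≠ ⊤ ∧ Contra A H}

def TwoCoatoms (A : Subgroup G) : Prop :=
  ∃ V W : Subgroup G, IsCoatom V ∧ IsCoatom W ∧ V ≠ W ∧ A ≤ V ∧ A ≤ W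

def IsCex (A : Subgroup G) : Prop :=
  Contra A ⊤ ∧ A ≠ ⊤ ∧ sSup (HSet A) ≠ ⊤ ∧ TwoCoatoms A

structure Ctx (G : Type u) [Group G] [Finite G] where
  A : Subgroup G
  cex : IsCex A
  hmax : ∀ B : Subgroup G, IsCex B → Nat.card B ≤ Nat.card A

namespace Ctx

variable [Finite G] (c : Ctx G)

def L : Subgroup G := sSup (HSet c.A)

theorem A_ne_top : c.A ≠ ⊤ := c.cex.2.1

theorem contra_top : Contra c.A ⊤ := c.cex.1

theorem A_mem_HSet : c.A ∈ HSet c.A := ⟨c.A_ne_top, contra_self _⟩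

theorem A_le_L : c.A ≤ c.L := le_sSup c.A_mem_HSet

theorem L_ne_top : c.L ≠ ⊤ := c.cex.2.2.1

theorem contra_L : Contra c.A c.L :=
  contra_sSup _ ⟨_, c.A_mem_HSet⟩ (fun _ hH => hH.2)

theorem le_L {H : Subgroup G} (h1 : H ≠ ⊤) (h2 : Contra c.A H) : H ≤ c.L := le_sSup ⟨h1, h2⟩

theorem normalizer_L_ne_top : Subgroup.normalizer (c.L : Set G) ≠ ⊤ := by
  intro h
  have := c.contra_top.2 c.L c.A_le_L le_top (by rw [h])
  exact c.L_ne_top (top_le_iff.1 this)

theorem exists_M : ∃ M : Subgroup G, IsCoatom M ∧ Subgroup.normalizer (c.L : Set G) ≤ M :=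
  (eq_top_or_exists_le_coatom _).resolve_left c.normalizer_L_ne_top

noncomputable def M : Subgroup G := Classical.choose c.exists_M

theorem M_coatom : IsCoatom c.M := (Classical.choose_spec c.exists_M).1

theorem normalizer_L_le_M : Subgroup.normalizer (c.L : Set G) ≤ c.M :=
  (Classical.choose_spec c.exists_M).2

theorem L_le_M : c.L ≤ c.M := Subgroup.le_normalizer.trans c.normalizer_L_le_M

theorem A_le_M : c.A ≤ c.M := c.A_le_L.trans c.L_le_M

theorem normalizer_A_le_M : Subgroup.normalizer (c.A : Set G) ≤ c.M := by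
  intro n hn
  apply c.normalizer_L_le_M
  have hnA : MulAut.conj n • c.A = c.A := conj_smul_eq_of_mem_normalizer hn
  have h1 : Contra c.A (MulAut.conj n • c.L) := by
    have := c.contra_L.conj n
    rwa [hnA] at this
  have h2 : MulAut.conj n • c.L ≤ c.L := c.le_L (conj_smul_ne_top n c.L_ne_top) h1
  have h3 : MulAut.conj n • c.L = c.L :=
    Subgroup.eq_of_le_of_card_ge h2 (by rw [card_conj_smul])
  exact mem_normalizer_of_conj_smul_eq h3

/-- `A` is subnormal in every proper overgroup not inside `M`. -/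
theorem relsn_of_not_le {X : Subgroup G} (hX : X ≠ ⊤) (hAX : c.A ≤ X) (hXM : ¬ X ≤ c.M) :
    (c.A.subgroupOf X).IsSubnormal := by
  obtain ⟨S, hAS, hSX, hSsn, hSc⟩ := exists_contra_relSubnormal hAX
  have hStop : S ≠ ⊤ := fun h => hX (top_le_iff.1 (h ▸ hSX))
  have hSL : S ≤ c.L := c.le_L hStop hSc
  by_cases hSA : S = c.A
  · rw [← hSA]; exact hSsn
  exfalso
  have hlt : c.A < S := lt_of_le_of_ne hAS (Ne.symm hSA)
  have hcard := card_lt_card_of_lt hlt
  obtain ⟨K, hK, hXK⟩ := (eq_top_or_exists_le_coatom X).resolve_left hX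
  have hKM : K ≠ c.M := fun h => hXM (h ▸ hXK)
  have hcex : IsCex S := by
    refine ⟨c.contra_top.mono_left hAS le_top, hStop, ?_, c.M, K, c.M_coatom, hK, hKM.symm,
      hSL.trans c.L_le_M, hSX.trans hXK⟩
    intro h
    apply c.L_ne_top
    rw [eq_top_iff, ← h]
    apply sSup_le
    intro Z hZ
    exact c.le_L hZ.1 (hSc.trans hZ.2)
  have := c.hmax S hcex
  omega

/-- `A` is not subnormal in `M` (classical zipper lemma). -/
theorem not_relsn_M : ¬ (c.A.subgroupOf c.M).IsSubnormal := by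
  intro h
  have hall : ∀ X : Subgroup G, X ≠ ⊤ → c.A ≤ X → (c.A.subgroupOf X).IsSubnormal := by
    intro X hX hAX
    by_cases hXM : X ≤ c.M
    · exact relSubnormal_mono hXM c.A_le_M h
    · exact c.relsn_of_not_le hX hAX hXM
  let U : Set (Subgroup G) := {V | c.A ≤ V ∧ V ≠ ⊤}
  let S : Subgroup G → Set (Subgroup G) := fun V =>
    {B | (∃ g : G, B = MulAut.conj g • c.A) ∧ B ≤ V ∧ (B.subgroupOf V).IsSubnormal}
  have hAS : ∀ V ∈ U, c.A ∈ S V := fun V hV => ⟨⟨1, by simp⟩, hV.1, hall V hV.2 hV.1⟩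
  have hz := zipper c.A U ⟨c.A, le_rfl, c.A_ne_top⟩ S (fun V B => Iff.rfl)
    (by
      intro V hV W _ B hB hBV
      obtain ⟨⟨g, rfl⟩, -, -⟩ := hB
      refine ⟨⟨g, rfl⟩, hBV, ?_⟩
      have h1 : c.A ≤ MulAut.conj g⁻¹ • V := (conj_smul_le_iff g).1 hBV
      have h2 := relSubnormal_conj g (hall _ (conj_smul_ne_top g⁻¹ hV.2) h1)
      rwa [conj_smul_conj_inv_smul] at h2)
    (by
      intro V hV W hW
      have hAX : c.A ≤ sSup (S V ∩ S W) := le_sSup ⟨hAS V hV, hAS W hW⟩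
      have hXV : sSup (S V ∩ S W) ≤ V := sSup_le (fun B hB => hB.1.2.1)
      refine ⟨_, ⟨hAX.trans Subgroup.le_normalizer, ?_⟩, le_refl _⟩
      intro hN
      have := c.contra_top.2 _ hAX le_top (by rw [hN])
      exact hV.2 (top_le_iff.1 (this.trans hXV)))
  obtain ⟨M', hM'U, hM'⟩ := hz
  obtain ⟨V, W, hV, hW, hVW, hAV, hAW⟩ := c.cex.2.2.2
  have e1 : M' = V := (hV.le_iff_eq hM'U.2).1 (hM' V ⟨hAV, hV.1⟩)
  have e2 : M' = W := (hW.le_iff_eq hM'U.2).1 (hM' W ⟨hAW, hW.1⟩)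
  exact hVW (e1.symm.trans e2)

theorem relsn_conj (g : G) {X : Subgroup G} (hX : X ≠ ⊤) (hAX : MulAut.conj g • c.A ≤ X)
    (hXM : ¬ X ≤ MulAut.conj g • c.M) : ((MulAut.conj g • c.A).subgroupOf X).IsSubnormal := by
  have h1 : c.A ≤ MulAut.conj g⁻¹ • X := (conj_smul_le_iff g).1 hAX
  have h2 : MulAut.conj g⁻¹ • X ≠ ⊤ := conj_smul_ne_top _ hX
  have h3 : ¬ MulAut.conj g⁻¹ • X ≤ c.M := by
    intro h
    apply hXM
    have := (conj_smul_le_iff g⁻¹).1 h
    rwa [inv_inv] at this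
  have := relSubnormal_conj g (c.relsn_of_not_le h2 h1 h3)
  rwa [conj_smul_conj_inv_smul] at this

theorem not_relsn_conj (g : G) :
    ¬ ((MulAut.conj g • c.A).subgroupOf (MulAut.conj g • c.M)).IsSubnormal := by
  intro h
  have := relSubnormal_conj g⁻¹ h
  rw [conj_inv_smul_conj_smul, conj_inv_smul_conj_smul] at this
  exact c.not_relsn_M this

theorem conjM_eq {g g' : G} (h : MulAut.conj g • c.A = MulAut.conj g' • c.A) :
    MulAut.conj g • c.M = MulAut.conj g' • c.M := by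
  have h1 : MulAut.conj (g'⁻¹ * g) • c.A = c.A := by
    rw [map_mul, mul_smul, h, conj_inv_smul_conj_smul]
  have h2 : g'⁻¹ * g ∈ c.M := c.normalizer_A_le_M (mem_normalizer_of_conj_smul_eq h1)
  have h3 : MulAut.conj (g'⁻¹ * g) • c.M = c.M := Subgroup.conj_smul_eq_self_of_mem h2
  have h4 : MulAut.conj g • c.M = MulAut.conj g' • MulAut.conj (g'⁻¹ * g) • c.M := by
    rw [smul_smul, ← map_mul]
    congr 2
    group
  rw [h4, h3]

theorem conjA_le_conjM (g : G) : MulAut.conj g • c.A ≤ MulAut.conj g • c.M :=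
  conj_smul_le_conj_smul g c.A_le_M

theorem contra_conj_top (g : G) : Contra (MulAut.conj g • c.A) ⊤ := by
  have := c.contra_top.conj g
  rwa [conj_smul_top] at this

end Ctx

end Cfsg.Agent.Helper9.GenZipper
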