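import Mathlib
import Cfsg.Agent.Helper9.GenZipper.Ctx

set_option autoImplicit false

/-!
Generalised zipper lemma, part 3: two distinct conjugates of `A` below two distinct coatoms.
-/

namespace Cfsg.Agent.Helper9.GenZipper

open scoped Pointwise
open Cfsg.Agent.Helper1 Cfsg.Agent.Helper3

universe u

variable {G : Type u} [Group G] [Finite G]

namespace Ctx

variable (c : Ctx G)

/-- Two distinct conjugates of `A` lying below two distinct coatoms have distinct special
coatoms, and both lie in both special coatoms. -/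
theorem pair_lemma (g g' : G) (hne : MulAut.conj g • c.A ≠ MulAut.conj g' • c.A)
    {V W : Subgroup G} (hV : IsCoatom V) (hW : IsCoatom W) (hVW : V ≠ W)
    (hYV : MulAut.conj g • c.A ⊔ MulAut.conj g' • c.A ≤ V)
    (hYW : MulAut.conj g • c.A ⊔ MulAut.conj g' • c.A ≤ W) :
    MulAut.conj g • c.M ≠ MulAut.conj g' • c.M ∧
      MulAut.conj g • c.A ⊔ MulAut.conj g' • c.A ≤
        MulAut.conj g • c.M ⊓ MulAut.conj g' • c.M := by
  set B := MulAut.conj g • c.A with hB
  set B' := MulAut.conj g' • c.A with hB'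
  set Y := B ⊔ B' with hY
  have hBY : B < Y := by
    refine lt_of_le_of_ne le_sup_left ?_
    intro h
    apply hne
    have h1 : B' ≤ B := by rw [h]; exact le_sup_right
    exact (Subgroup.eq_of_le_of_card_ge h1 (by rw [hB, hB', card_conj_smul, card_conj_smul])).symm
  have hcardY : Nat.card c.A < Nat.card Y := by
    have := card_lt_card_of_lt hBY
    rwa [hB, card_conj_smul] at this
  have hYtop : Y ≠ ⊤ := fun h => hV.1 (top_le_iff.1 (h ▸ hYV))
  have hcY : Contra Y ⊤ := (c.contra_conj_top g).mono_left le_sup_left le_top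
  have hsup : sSup (HSet Y) = ⊤ := by
    by_contra h
    have := c.hmax Y ⟨hcY, hYtop, h, V, W, hV, hW, hVW, hYV, hYW⟩
    omega
  have key : ∀ Z ∈ HSet Y, Z ≤ MulAut.conj g • c.M ∨ Z ≤ MulAut.conj g' • c.M ∨ Z ≤ Y := by
    rintro Z ⟨hZtop, hZc⟩
    by_contra hcon
    push Not at hcon
    obtain ⟨h1, h2, h3⟩ := hcon
    have hBZ : B ≤ Z := le_sup_left.trans hZc.1
    have hB'Z : B' ≤ Z := le_sup_right.trans hZc.1
    have sn1 := c.relsn_conj g hZtop hBZ h1
    have sn2 := c.relsn_conj g' hZtop hB'Z h2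
    have sn : (Y.subgroupOf Z).IsSubnormal := by
      rw [hY, Subgroup.subgroupOf_sup hBZ hB'Z]
      exact isSubnormal_sup_aux _ _ rfl _ _ sn1 sn2
    exact h3 (hZc.le_of_relSubnormal le_rfl sn)
  have bound : ∀ T : Subgroup G, T ≠ ⊤ → (∀ Z ∈ HSet Y, Z ≤ T) → False := by
    intro T hT h
    apply hT
    rw [eq_top_iff, ← hsup]
    exact sSup_le h
  have hMg : MulAut.conj g • c.M ≠ ⊤ := (isCoatom_conj_smul c.M_coatom g).1
  have hMg' : MulAut.conj g' • c.M ≠ ⊤ := (isCoatom_conj_smul c.M_coatom g').1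
  have hP : Y ≤ MulAut.conj g • c.M := by
    by_contra hP
    by_cases hP' : Y ≤ MulAut.conj g' • c.M
    · apply bound _ hMg'
      intro Z hZ
      rcases key Z hZ with h | h | h
      · exact absurd (hZ.2.1.trans h) hP
      · exact h
      · exact h.trans hP'
    · apply bound Y hYtop
      intro Z hZ
      rcases key Z hZ with h | h | h
      · exact absurd (hZ.2.1.trans h) hP
      · exact absurd (hZ.2.1.trans h) hP'
      · exact h
  have hP' : Y ≤ MulAut.conj g' • c.M := by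
    by_contra hP'
    apply bound _ hMg
    intro Z hZ
    rcases key Z hZ with h | h | h
    · exact h
    · exact absurd (hZ.2.1.trans h) hP'
    · exact h.trans hP
  refine ⟨?_, le_inf hP hP'⟩
  intro heq
  apply bound _ hMg
  intro Z hZ
  rcases key Z hZ with h | h | h
  · exact h
  · rw [heq]; exact h
  · exact h.trans hP

/-- conjugates of `A` inside `V` -/
def Sig (V : Subgroup G) : Set (Subgroup G) :=
  {B | (∃ g : G, B = MulAut.conj g • c.A) ∧ B ≤ V}

theorem exists_K : ∃ K : Subgroup G, IsCoatom K ∧ K ≠ c.M ∧ c.A ≤ K := by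
  obtain ⟨V, W, hV, hW, hVW, hAV, hAW⟩ := c.cex.2.2.2
  by_cases h : V = c.M
  · exact ⟨W, hW, fun h' => hVW (h.trans h'.symm), hAW⟩
  · exact ⟨V, hV, h, hAV⟩

/-- some pair of distinct coatoms shares two distinct conjugates of `A` -/
theorem exists_two : ∃ V W : Subgroup G, IsCoatom V ∧ IsCoatom W ∧ V ≠ W ∧
    2 ≤ (c.Sig V ∩ c.Sig W).ncard := by
  obtain ⟨K, hK, hKM, hAK⟩ := c.exists_K
  have hKM' : ¬ K ≤ c.M := fun h => hKM ((hK.le_iff_eq c.M_coatom.1).1 h).symm
  have hsn : (c.A.subgroupOf K).IsSubnormal := c.relsn_of_not_le hK.1 hAK hKM'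
  have hKN : ¬ K ≤ Subgroup.normalizer (c.A : Set G) := fun h => hKM' (h.trans c.normalizer_A_le_M)
  obtain ⟨k, hk, hkN⟩ := SetLike.not_le_iff_exists.1 hKN
  have hkA : MulAut.conj k • c.A ≠ c.A := fun h => hkN (mem_normalizer_of_conj_smul_eq h)
  let S : Set (Subgroup G) := {B | ∃ x ∈ K, B = MulAut.conj x • c.A}
  have hS : ∀ U ∈ S, U ≤ K ∧ (U.subgroupOf K).IsSubnormal := by
    rintro U ⟨x, hx, rfl⟩
    have hxK : MulAut.conj x • K = K := Subgroup.conj_smul_eq_self_of_mem hx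
    constructor
    · have := conj_smul_le_conj_smul x hAK
      rwa [hxK] at this
    · have := relSubnormal_conj x hsn
      rwa [hxK] at this
  have hconj : ∀ U ∈ S, ∀ y ∈ K, MulAut.conj y • U ∈ S := by
    rintro U ⟨x, hx, rfl⟩ y hy
    exact ⟨y * x, K.mul_mem hy hx, by rw [map_mul, mul_smul]⟩
  have h₀ : ({c.A} : Set (Subgroup G)) ⊂ S := by
    refine ⟨?_, ?_⟩
    · intro B hB
      rw [Set.mem_singleton_iff] at hB
      exact ⟨1, K.one_mem, by rw [hB, map_one, one_smul]⟩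
    · intro h
      exact hkA (Set.mem_singleton_iff.1 (h ⟨k, hk, rfl⟩))
  obtain ⟨X, hXS, hXA, hXN⟩ := subnormal_family_normalizes_join_rel K S {c.A} hS hconj h₀
  rw [sSup_singleton] at hXN
  obtain ⟨x, hx, rfl⟩ := hXS
  refine ⟨c.M, K, c.M_coatom, hK, hKM.symm, ?_⟩
  have hsub : ({c.A, MulAut.conj x • c.A} : Set (Subgroup G)) ⊆ c.Sig c.M ∩ c.Sig K := by
    intro B hB
    rcases hB with rfl | hB
    · exact ⟨⟨⟨1, by rw [map_one, one_smul]⟩, c.A_le_M⟩, ⟨⟨1, by rw [map_one, one_smul]⟩, hAK⟩⟩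
    · rw [Set.mem_singleton_iff] at hB
      subst hB
      exact ⟨⟨⟨x, rfl⟩, hXN.trans c.normalizer_A_le_M⟩, ⟨⟨x, rfl⟩, (hS _ ⟨x, hx, rfl⟩).1⟩⟩
  have h2 : ({c.A, MulAut.conj x • c.A} : Set (Subgroup G)).ncard = 2 :=
    Set.ncard_pair (fun h => hXA (Set.mem_singleton_iff.2 h.symm))
  rw [← h2]
  exact Set.ncard_le_ncard hsub (Set.toFinite _)

end Ctx

end Cfsg.Agent.Helper9.GenZipper
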