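import Mathlib
import Cfsg.Agent.Helper9.GenZipper.Pair

set_option autoImplicit false

/-!
Generalised zipper lemma, part 4: the counting argument on a pair of coatoms sharing
a maximal number of conjugates of `A`.
-/

namespace Cfsg.Agent.Helper9.GenZipper

open scoped Pointwise
open Cfsg.Agent.Helper1 Cfsg.Agent.Helper3

universe u

variable {G : Type u} [Group G] [Finite G]

namespace Ctx

variable (c : Ctx G)

open Classical in
/-- the special coatom of a conjugate of `A` -/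
noncomputable def sp (B : Subgroup G) : Subgroup G :=
  if h : ∃ g : G, B = MulAut.conj g • c.A then MulAut.conj (Classical.choose h) • c.M else ⊥

theorem sp_conj (g : G) : c.sp (MulAut.conj g • c.A) = MulAut.conj g • c.M := by
  have h : ∃ g' : G, MulAut.conj g • c.A = MulAut.conj g' • c.A := ⟨g, rfl⟩
  unfold sp
  rw [dif_pos h]
  exact (c.conjM_eq (Classical.choose_spec h)).symm

theorem sp_smul (x g : G) :
    c.sp (MulAut.conj x • MulAut.conj g • c.A) = MulAut.conj x • c.sp (MulAut.conj g • c.A) := by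
  rw [smul_smul, ← map_mul, sp_conj, sp_conj, map_mul, mul_smul]

/-- conjugates of `A` inside `sp B` that are subnormal in `sp B` -/
def SigStar (B : Subgroup G) : Set (Subgroup G) :=
  {X | (∃ x : G, X = MulAut.conj x • c.A) ∧ X ≤ c.sp B ∧ (X.subgroupOf (c.sp B)).IsSubnormal}

theorem sigStar_conj {B : Subgroup G} {U : Subgroup G} (hU : U ∈ c.SigStar B) {y : G}
    (hy : y ∈ c.sp B) : MulAut.conj y • U ∈ c.SigStar B := by
  have hysp : MulAut.conj y • c.sp B = c.sp B := Subgroup.conj_smul_eq_self_of_mem hy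
  obtain ⟨⟨u, rfl⟩, hle, hsn⟩ := hU
  refine ⟨⟨y * u, by rw [map_mul, mul_smul]⟩, ?_, ?_⟩
  · have := conj_smul_le_conj_smul y hle
    rwa [hysp] at this
  · have := relSubnormal_conj y hsn
    rwa [hysp] at this

end Ctx

/-- a pair of distinct coatoms sharing a maximal number (at least two) of conjugates of `A` -/
structure MP (c : Ctx G) where
  V : Subgroup G
  W : Subgroup G
  hV : IsCoatom V
  hW : IsCoatom W
  hVW : V ≠ W
  two : 2 ≤ (c.Sig V ∩ c.Sig W).ncard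
  hmax : ∀ V' W' : Subgroup G, IsCoatom V' → IsCoatom W' → V' ≠ W' →
    (c.Sig V' ∩ c.Sig W').ncard ≤ (c.Sig V ∩ c.Sig W).ncard

namespace MP

variable {c : Ctx G} (p : MP c)

def C : Set (Subgroup G) := c.Sig p.V ∩ c.Sig p.W

theorem conj_of_mem {B : Subgroup G} (hB : B ∈ p.C) : ∃ g : G, B = MulAut.conj g • c.A := hB.1.1

theorem le_sp {B B' : Subgroup G} (hB : B ∈ p.C) (hB' : B' ∈ p.C) : B' ≤ c.sp B := by
  obtain ⟨g, rfl⟩ := p.conj_of_mem hB
  obtain ⟨g', rfl⟩ := p.conj_of_mem hB'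
  rw [c.sp_conj]
  by_cases hne : MulAut.conj g • c.A = MulAut.conj g' • c.A
  · rw [← hne]; exact c.conjA_le_conjM g
  · have := (c.pair_lemma g g' hne p.hV p.hW p.hVW (sup_le hB.1.2 hB'.1.2)
      (sup_le hB.2.2 hB'.2.2)).2
    exact (le_sup_right.trans this).trans inf_le_left

theorem sp_ne {B B' : Subgroup G} (hB : B ∈ p.C) (hB' : B' ∈ p.C) (hne : B ≠ B') :
    c.sp B ≠ c.sp B' := by
  obtain ⟨g, rfl⟩ := p.conj_of_mem hB
  obtain ⟨g', rfl⟩ := p.conj_of_mem hB'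
  rw [c.sp_conj, c.sp_conj]
  exact (c.pair_lemma g g' hne p.hV p.hW p.hVW (sup_le hB.1.2 hB'.1.2)
      (sup_le hB.2.2 hB'.2.2)).1

theorem sp_coatom {B : Subgroup G} (hB : B ∈ p.C) : IsCoatom (c.sp B) := by
  obtain ⟨g, rfl⟩ := p.conj_of_mem hB
  rw [c.sp_conj]
  exact isCoatom_conj_smul c.M_coatom g

theorem exists_two_mem : ∃ B₁ B₂ : Subgroup G, B₁ ∈ p.C ∧ B₂ ∈ p.C ∧ B₁ ≠ B₂ :=
  (Set.one_lt_ncard_iff (Set.toFinite _)).1 p.two

theorem sig_inter_eq {B₁ B₂ : Subgroup G} (h1 : B₁ ∈ p.C) (h2 : B₂ ∈ p.C) (hne : B₁ ≠ B₂) :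
    c.Sig (c.sp B₁) ∩ c.Sig (c.sp B₂) = p.C := by
  symm
  apply Set.eq_of_subset_of_ncard_le
  · intro B hB
    exact ⟨⟨hB.1.1, p.le_sp h1 hB⟩, ⟨hB.1.1, p.le_sp h2 hB⟩⟩
  · exact p.hmax _ _ (p.sp_coatom h1) (p.sp_coatom h2) (p.sp_ne h1 h2 hne)
  · exact Set.toFinite _

theorem mem_of_le_all {X : Subgroup G} (hX : ∃ x : G, X = MulAut.conj x • c.A)
    (h : ∀ B ∈ p.C, X ≤ c.sp B) : X ∈ p.C := by
  obtain ⟨B₁, B₂, h1, h2, hne⟩ := p.exists_two_mem
  rw [← p.sig_inter_eq h1 h2 hne]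
  exact ⟨⟨hX, h B₁ h1⟩, ⟨hX, h B₂ h2⟩⟩

def T : Subgroup G := sSup p.C

theorem le_T {B : Subgroup G} (hB : B ∈ p.C) : B ≤ p.T := le_sSup hB

theorem T_le_sp {B : Subgroup G} (hB : B ∈ p.C) : p.T ≤ c.sp B :=
  sSup_le (fun _ hB' => p.le_sp hB hB')

theorem normalizer_T_ne_top : Subgroup.normalizer (p.T : Set G) ≠ ⊤ := by
  intro h
  obtain ⟨B, _, hB, _, _⟩ := p.exists_two_mem
  obtain ⟨g, hg⟩ := p.conj_of_mem hB
  have h1 := (c.contra_conj_top g).2 p.T (hg ▸ p.le_T hB) le_top (by rw [h])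
  exact (p.sp_coatom hB).1 (top_le_iff.1 (h1.trans (p.T_le_sp hB)))

/-- An element of `sp B` permuting `C \ {B}` normalises `T`. -/
theorem mem_normalizer_T {B : Subgroup G} (hB : B ∈ p.C) {x : G} (hx : x ∈ c.sp B)
    (h : ∀ B' ∈ p.C, B' ≠ B → MulAut.conj x • B' ∈ p.C ∧ MulAut.conj x • B' ≠ B) :
    x ∈ Subgroup.normalizer (p.T : Set G) := by
  set D : Set (Subgroup G) := p.C \ {B} with hD
  set φ : Subgroup G → Subgroup G := fun U => MulAut.conj x • U with hφ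
  have hφinj : Function.Injective φ := MulAction.injective (MulAut.conj x)
  have himg : φ '' D = D := by
    apply Set.eq_of_subset_of_ncard_le
    · rintro _ ⟨B', hB', rfl⟩
      exact ⟨(h B' hB'.1 hB'.2).1, (h B' hB'.1 hB'.2).2⟩
    · rw [Set.ncard_image_of_injective _ hφinj]
    · exact Set.toFinite _
  have hxsp : MulAut.conj x • c.sp B = c.sp B := Subgroup.conj_smul_eq_self_of_mem hx
  have hxB : MulAut.conj x • B ∈ p.C := by
    apply p.mem_of_le_all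
    · obtain ⟨g, rfl⟩ := p.conj_of_mem hB
      exact ⟨x * g, by rw [map_mul, mul_smul]⟩
    · intro B'' hB''
      by_cases hBB : B'' = B
      · rw [hBB, ← hxsp]
        exact conj_smul_le_conj_smul x (p.le_sp hB hB)
      · have hmem : B'' ∈ φ '' D := by rw [himg]; exact ⟨hB'', hBB⟩
        obtain ⟨B''', hB''', rfl⟩ := hmem
        obtain ⟨g, rfl⟩ := p.conj_of_mem hB'''.1
        show MulAut.conj x • B ≤ c.sp (MulAut.conj x • MulAut.conj g • c.A)
        rw [c.sp_smul]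
        exact conj_smul_le_conj_smul x (p.le_sp hB'''.1 hB)
  have hall : ∀ B'' ∈ p.C, MulAut.conj x • B'' ∈ p.C := by
    intro B'' hB''
    by_cases hBB : B'' = B
    · rw [hBB]; exact hxB
    · exact (h B'' hB'' hBB).1
  have hle : MulAut.conj x • p.T ≤ p.T := by
    rw [conj_smul_le_iff]
    apply sSup_le
    intro B'' hB''
    rw [← conj_smul_le_iff]
    exact p.le_T (hall B'' hB'')
  have heq : MulAut.conj x • p.T = p.T :=
    Subgroup.eq_of_le_of_card_ge hle (by rw [card_conj_smul])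
  exact mem_normalizer_of_conj_smul_eq heq

theorem diff_subset_sigStar {B : Subgroup G} (hB : B ∈ p.C) : p.C \ {B} ⊆ c.SigStar B := by
  rintro B' ⟨hB', hne⟩
  refine ⟨hB'.1.1, p.le_sp hB hB', ?_⟩
  have hne' : B ≠ B' := fun h => hne (by rw [h]; rfl)
  have hsp := p.sp_ne hB hB' hne'
  have hle := p.le_sp hB hB'
  obtain ⟨g', rfl⟩ := p.conj_of_mem hB'
  apply c.relsn_conj g' (p.sp_coatom hB).1 hle
  rw [c.sp_conj] at hsp
  intro h
  apply hsp
  exact (((p.sp_coatom hB).le_iff_eq (isCoatom_conj_smul c.M_coatom g').1).1 h).symm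

theorem not_mem_sigStar {B : Subgroup G} (hB : B ∈ p.C) : B ∉ c.SigStar B := by
  intro h
  obtain ⟨g, rfl⟩ := p.conj_of_mem hB
  have := h.2.2
  rw [c.sp_conj] at this
  exact c.not_relsn_conj g this

theorem k1 {B : Subgroup G} (hB : B ∈ p.C) (h : ¬ c.SigStar B ⊆ p.C \ {B}) :
    Subgroup.normalizer (p.T : Set G) ≤ c.sp B ∧
      ∃ X : Subgroup G, (∃ x : G, X = MulAut.conj x • c.A) ∧ X ∉ p.C ∧
        X ≤ Subgroup.normalizer (p.T : Set G) := by
  have h₀ : p.C \ {B} ⊂ c.SigStar B := ⟨p.diff_subset_sigStar hB, h⟩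
  obtain ⟨X, hXS, hXD, hXN⟩ := subnormal_family_normalizes_join_rel (c.sp B) (c.SigStar B)
    (p.C \ {B}) (fun U hU => ⟨hU.2.1, hU.2.2⟩) (fun U hU y hy => c.sigStar_conj hU hy) h₀
  have hXC : X ∉ p.C := by
    intro hX
    apply hXD
    refine ⟨hX, ?_⟩
    intro hXB
    rw [Set.mem_singleton_iff] at hXB
    exact p.not_mem_sigStar hB (hXB ▸ hXS)
  have hXT : X ≤ Subgroup.normalizer (p.T : Set G) := by
    intro x hx
    apply p.mem_normalizer_T hB (hXS.2.1 hx)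
    intro B' hB' hne
    have hxF : MulAut.conj x • sSup (p.C \ {B}) = sSup (p.C \ {B}) :=
      conj_smul_eq_of_mem_normalizer (hXN hx)
    have h1 : MulAut.conj x • B' ≤ p.T := by
      have h2 : B' ≤ sSup (p.C \ {B}) := le_sSup ⟨hB', hne⟩
      have h3 := conj_smul_le_conj_smul x h2
      rw [hxF] at h3
      exact h3.trans (sSup_le_sSup Set.sdiff_subset)
    obtain ⟨g', hg'⟩ := p.conj_of_mem hB'
    have hmem : MulAut.conj x • B' ∈ p.C := by
      apply p.mem_of_le_all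
      · exact ⟨x * g', by rw [hg', map_mul, mul_smul]⟩
      · intro B'' hB''
        exact h1.trans (p.T_le_sp hB'')
    refine ⟨hmem, ?_⟩
    intro heq
    have h4 : c.sp (MulAut.conj x • B') = c.sp B := by rw [heq]
    rw [hg', c.sp_smul, ← hg'] at h4
    have hxinv : MulAut.conj x⁻¹ • c.sp B = c.sp B :=
      Subgroup.conj_smul_eq_self_of_mem (Subgroup.inv_mem _ (hXS.2.1 hx))
    have h5 : c.sp B' = c.sp B := by
      rw [← hxinv, ← h4, conj_inv_smul_conj_smul]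
    exact p.sp_ne hB' hB hne h5
  refine ⟨?_, X, hXS.1, hXC, hXT⟩
  obtain ⟨V', hV', hNV'⟩ := (eq_top_or_exists_le_coatom _).resolve_left p.normalizer_T_ne_top
  have hV'eq : V' = c.sp B := by
    by_contra hne
    have h1 := p.hmax V' (c.sp B) hV' (p.sp_coatom hB) hne
    have hsub : insert X p.C ⊆ c.Sig V' ∩ c.Sig (c.sp B) := by
      intro U hU
      rcases hU with rfl | hU
      · exact ⟨⟨hXS.1, hXT.trans hNV'⟩, ⟨hXS.1, hXS.2.1⟩⟩
      · exact ⟨⟨hU.1.1, ((p.le_T hU).trans Subgroup.le_normalizer).trans hNV'⟩,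
          ⟨hU.1.1, p.le_sp hB hU⟩⟩
    have h2 := Set.ncard_le_ncard hsub (Set.toFinite _)
    rw [Set.ncard_insert_of_notMem hXC (Set.toFinite _)] at h2
    have h3 : p.C.ncard = (c.Sig p.V ∩ c.Sig p.W).ncard := rfl
    omega
  rw [← hV'eq]
  exact hNV'

theorem k2 {B : Subgroup G} (hB : B ∈ p.C) (h : c.SigStar B ⊆ p.C \ {B}) :
    c.sp B ≤ Subgroup.normalizer (p.T : Set G) := by
  intro y hy
  apply p.mem_normalizer_T hB hy
  intro B' hB' hne
  have h1 := h (c.sigStar_conj (p.diff_subset_sigStar hB ⟨hB', hne⟩) hy)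
  exact ⟨h1.1, h1.2⟩

theorem normalizer_T_le_sp {B : Subgroup G} (hB : B ∈ p.C) :
    Subgroup.normalizer (p.T : Set G) ≤ c.sp B := by
  by_cases h : c.SigStar B ⊆ p.C \ {B}
  · have h1 := p.k2 hB h
    have h2 := ((p.sp_coatom hB).le_iff_eq p.normalizer_T_ne_top).1 h1
    rw [h2]
  · exact (p.k1 hB h).1

theorem elim (p : MP c) : False := by
  obtain ⟨B₁, B₂, h1, h2, hne⟩ := p.exists_two_mem
  by_cases h : c.SigStar B₁ ⊆ p.C \ {B₁}
  · have h3 := (p.k2 h1 h).trans (p.normalizer_T_le_sp h2)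
    have h4 := ((p.sp_coatom h1).le_iff_eq (p.sp_coatom h2).1).1 h3
    exact p.sp_ne h1 h2 hne h4.symm
  · obtain ⟨-, X, hX, hXC, hXT⟩ := p.k1 h1 h
    exact hXC (p.mem_of_le_all hX (fun B hB => hXT.trans (p.normalizer_T_le_sp hB)))

end MP

theorem Ctx.elim (c : Ctx G) : False := by
  obtain ⟨V₀, W₀, hV₀, hW₀, hVW₀, h2⟩ := c.exists_two
  let P := {q : Subgroup G × Subgroup G // IsCoatom q.1 ∧ IsCoatom q.2 ∧ q.1 ≠ q.2}
  have : Nonempty P := ⟨⟨(V₀, W₀), hV₀, hW₀, hVW₀⟩⟩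
  obtain ⟨⟨⟨V, W⟩, hV, hW, hVW⟩, hmax⟩ :=
    Finite.exists_max (fun q : P => (c.Sig q.1.1 ∩ c.Sig q.1.2).ncard)
  simp only at hV hW hVW hmax
  have hmax' : ∀ V' W' : Subgroup G, IsCoatom V' → IsCoatom W' → V' ≠ W' →
      (c.Sig V' ∩ c.Sig W').ncard ≤ (c.Sig V ∩ c.Sig W).ncard :=
    fun V' W' hV' hW' hne => hmax ⟨(V', W'), hV', hW', hne⟩
  exact MP.elim ⟨V, W, hV, hW, hVW, h2.trans (hmax' V₀ W₀ hV₀ hW₀ hVW₀), hmax'⟩

/-- No counterexample to the generalised zipper lemma. -/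
theorem not_isCex (A : Subgroup G) : ¬ IsCex A := by
  intro hA
  have : Nonempty {B : Subgroup G // IsCex B} := ⟨⟨A, hA⟩⟩
  obtain ⟨⟨A₀, hA₀⟩, hmax⟩ := Finite.exists_max (fun B : {B : Subgroup G // IsCex B} => Nat.card B.1)
  exact Ctx.elim ⟨A₀, hA₀, fun B hB => hmax ⟨B, hB⟩⟩

end Cfsg.Agent.Helper9.GenZipper
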