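import Mathlib
import Cfsg.Agent.S3947

set_option autoImplicit false

/-!
Iterated conjugates: if the conjugates of `a` generate the finite group `Γ`, so do
the conjugates of `a` by conjugates of `a`, and so on.  Proved from the generalised
zipper lemma (S3947).
-/

namespace Cfsg.Agent.Helper9.GenZipper

open scoped Pointwise
open Cfsg.Agent.Helper1

universe u

section IterConjDefs

variable {Γ : Type u} [Group Γ]

/-- level `0`: all conjugates of `a`; level `j+1`: conjugates of `a` by elements of level `j`. -/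
def IterConj (a : Γ) : ℕ → Set Γ
  | 0 => {x | ∃ g : Γ, x = g * a * g⁻¹}
  | (j + 1) => {x | ∃ s ∈ IterConj a j, x = s * a * s⁻¹}

theorem self_mem_iterConj (a : Γ) : ∀ j, a ∈ IterConj a j
  | 0 => ⟨a, by group⟩
  | (j + 1) => ⟨a, self_mem_iterConj a j, by group⟩

theorem closure_iterConj_zero (a : Γ) :
    Subgroup.closure (IterConj a 0) = Subgroup.normalClosure {a} := by
  have h : IterConj a 0 = Group.conjugatesOfSet {a} := by
    ext x
    rw [Group.mem_conjugatesOfSet_iff]
    constructor
    · rintro ⟨g, rfl⟩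
      exact ⟨a, rfl, isConj_iff.2 ⟨g, rfl⟩⟩
    · rintro ⟨b, hb, hx⟩
      rw [Set.mem_singleton_iff] at hb
      subst hb
      obtain ⟨g, hg⟩ := isConj_iff.1 hx
      exact ⟨g, hg.symm⟩
  rw [h]; rfl

theorem normalClosure_zpowers_eq (a : Γ) :
    Subgroup.normalClosure ((Subgroup.zpowers a : Subgroup Γ) : Set Γ) =
      Subgroup.normalClosure {a} := by
  apply le_antisymm
  · apply Subgroup.normalClosure_le_normal
    intro x hx
    have h1 : Subgroup.zpowers a ≤ Subgroup.normalClosure {a} := by
      rw [Subgroup.zpowers_le]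
      exact Subgroup.subset_normalClosure rfl
    exact h1 hx
  · apply Subgroup.normalClosure_mono
    intro x hx
    rw [Set.mem_singleton_iff] at hx
    subst hx
    exact Subgroup.mem_zpowers x

theorem coe_mem_iterConj (H : Subgroup Γ) (a' : ↥H) :
    ∀ j, ∀ x ∈ IterConj a' j, (x : Γ) ∈ IterConj (a' : Γ) j
  | 0 => by
    rintro x ⟨g, rfl⟩
    exact ⟨(g : Γ), by simp⟩
  | (j + 1) => by
    rintro x ⟨s, hs, rfl⟩
    exact ⟨(s : Γ), coe_mem_iterConj H a' j s hs, by simp⟩

end IterConjDefs

theorem closure_iterConj_aux : ∀ n : ℕ, ∀ (Γ : Type u) [Group Γ] [Finite Γ], Nat.card Γ = n →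
    ∀ a : Γ, Subgroup.normalClosure {a} = ⊤ → ∀ j, Subgroup.closure (IterConj a j) = ⊤ := by
  intro n
  induction n using Nat.strong_induction_on with
  | _ n ih =>
  intro Γ _ _ hn a ha j
  by_cases hAtop : Subgroup.zpowers a = ⊤
  · rw [eq_top_iff, ← hAtop, Subgroup.zpowers_le]
    exact Subgroup.subset_closure (self_mem_iterConj a j)
  have hA : Subgroup.normalClosure ((Subgroup.zpowers a : Subgroup Γ) : Set Γ) = ⊤ := by
    rw [normalClosure_zpowers_eq, ha]
  rcases Cfsg.Agent.S3947.result (Subgroup.zpowers a) hA hAtop with hsup | huniq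
  · -- join case
    rw [eq_top_iff, ← hsup]
    apply sSup_le
    rintro H ⟨hAH, hHtop, hHn⟩
    have haH : a ∈ H := hAH (Subgroup.mem_zpowers a)
    have hz : (Subgroup.zpowers a).subgroupOf H = Subgroup.zpowers (⟨a, haH⟩ : ↥H) := by
      ext x
      rw [Subgroup.mem_subgroupOf, Subgroup.mem_zpowers_iff, Subgroup.mem_zpowers_iff]
      constructor
      · rintro ⟨k, hk⟩
        exact ⟨k, Subtype.ext (by simpa using hk)⟩
      · rintro ⟨k, hk⟩
        exact ⟨k, by rw [← hk]; simp⟩
    have hn' : Subgroup.normalClosure {(⟨a, haH⟩ : ↥H)} = ⊤ := by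
      rw [← normalClosure_zpowers_eq, ← hz]; exact hHn
    have hlt : Nat.card ↥H < n := by
      rw [← hn, ← Subgroup.card_top (G := Γ)]
      exact card_lt_card_of_lt (lt_top_iff_ne_top.2 hHtop)
    have hcl := ih _ hlt ↥H rfl ⟨a, haH⟩ hn' j
    intro x hx
    have hx' : (⟨x, hx⟩ : ↥H) ∈ Subgroup.closure (IterConj (⟨a, haH⟩ : ↥H) j) := by
      rw [hcl]; trivial
    have hx2 : x ∈ (Subgroup.closure (IterConj (⟨a, haH⟩ : ↥H) j)).map H.subtype :=
      ⟨⟨x, hx⟩, hx', rfl⟩
    rw [MonoidHom.map_closure] at hx2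
    refine Subgroup.closure_mono ?_ hx2
    rintro y ⟨y', hy', rfl⟩
    exact coe_mem_iterConj H ⟨a, haH⟩ j y' hy'
  · -- unique maximal subgroup over `a`
    obtain ⟨M, ⟨hM, hAM⟩, hMuniq⟩ := huniq
    have hNM : Subgroup.normalizer (M : Set Γ) = M := by
      rcases hM.le_iff.1 (Subgroup.le_normalizer (H := M)) with h | h
      · exfalso
        have hnorm : M.Normal := Subgroup.normalizer_eq_top_iff.1 h
        have h1 : Subgroup.normalClosure ((Subgroup.zpowers a : Subgroup Γ) : Set Γ) ≤ M :=
          Subgroup.normalClosure_le_normal hAM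
        rw [hA] at h1
        exact hM.1 (top_le_iff.1 h1)
      · exact h
    induction j with
    | zero => rw [closure_iterConj_zero, ha]
    | succ j ihj =>
      by_contra hne
      obtain ⟨M', hM', hle⟩ := (eq_top_or_exists_le_coatom _).resolve_left hne
      have hAM' : Subgroup.zpowers a ≤ M' := by
        rw [Subgroup.zpowers_le]
        exact hle (Subgroup.subset_closure (self_mem_iterConj a (j + 1)))
      have hM'M : M' = M := hMuniq M' ⟨hM', hAM'⟩
      rw [hM'M] at hle
      have hsub : IterConj a j ⊆ M := by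
        intro s hs
        have h1 : s * a * s⁻¹ ∈ M := hle (Subgroup.subset_closure ⟨s, hs, rfl⟩)
        have h2 : a ∈ MulAut.conj s⁻¹ • M := by
          rw [mem_conj_smul]
          simpa using h1
        have h3 : MulAut.conj s⁻¹ • M = M :=
          hMuniq _ ⟨isCoatom_conj_smul hM s⁻¹, by rw [Subgroup.zpowers_le]; exact h2⟩
        have h4 : s⁻¹ ∈ Subgroup.normalizer (M : Set Γ) := mem_normalizer_of_conj_smul_eq h3
        rw [hNM] at h4
        exact M.inv_mem_iff.1 h4
      have hcl : Subgroup.closure (IterConj a j) ≤ M := (Subgroup.closure_le M).2 hsub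
      rw [ihj] at hcl
      exact hM.1 (top_le_iff.1 hcl)

/-- If the conjugates of `a` generate the finite group `Γ`, so does every level of
iterated conjugates. -/
theorem closure_iterConj {Γ : Type u} [Group Γ] [Finite Γ] (a : Γ)
    (ha : Subgroup.normalClosure {a} = ⊤) (j : ℕ) : Subgroup.closure (IterConj a j) = ⊤ :=
  closure_iterConj_aux (Nat.card Γ) Γ rfl a ha j

end Cfsg.Agent.Helper9.GenZipper
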