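import Mathlib
import Cfsg.Agent.Helper9.GenZipper.IterConj

set_option autoImplicit false

/-!
Iterated commutators with an automorphism: if `[G, α] = G` then `[G, α, …, α] = G`.
We apply `closure_iterConj` to the element `α` of the semidirect product `G ⋊ ⟨α⟩`.
-/

namespace Cfsg.Agent.Helper9.GenZipper

open SemidirectProduct

universe u

section AutIter

variable {G : Type u} [Group G] (α : MulAut G)

/-- `G ⋊ ⟨α⟩` -/
abbrev AutSd : Type u := G ⋊[(Subgroup.zpowers α).subtype] ↥(Subgroup.zpowers α)

/-- `α` as an element of `G ⋊ ⟨α⟩` -/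
def autHat : AutSd α := inr ⟨α, Subgroup.mem_zpowers α⟩

theorem autSd_finite [Finite G] : Finite (AutSd α) :=
  Finite.of_equiv _ (SemidirectProduct.equivProd).symm

theorem inr_mul_autHat (z : ↥(Subgroup.zpowers α)) :
    (inr z : AutSd α) * autHat α = autHat α * inr z := by
  unfold autHat
  rw [← map_mul, ← map_mul]
  congr 1
  obtain ⟨k, hk⟩ := Subgroup.mem_zpowers_iff.1 z.2
  apply Subtype.ext
  rw [Subgroup.coe_mul, Subgroup.coe_mul, ← hk]
  exact ((Commute.refl α).zpow_left k).eq

theorem left_inl_mul_autHat (c : G) : ((inl c : AutSd α) * autHat α).left = c := by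
  unfold autHat
  simp

variable (f : G → G) (hf : ∀ c, f c = c * (α c)⁻¹)

include hf

theorem inl_conj_autHat (c : G) :
    (inl c : AutSd α) * autHat α * (inl c)⁻¹ = inl (f c) * autHat α := by
  unfold autHat
  ext
  · simp [hf]
  · simp

theorem conj_autHat (g : AutSd α) :
    g * autHat α * g⁻¹ = inl (f g.left) * autHat α := by
  rw [← inl_conj_autHat α f hf]
  have h := inr_mul_autHat α g.right
  have h2 : (inr g.right : AutSd α) * autHat α * (inr g.right)⁻¹ = autHat α := by
    rw [h, mul_inv_cancel_right]
  calc g * autHat α * g⁻¹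
      = (inl g.left * inr g.right) * autHat α * (inl g.left * inr g.right)⁻¹ := by
        rw [inl_left_mul_inr_right]
    _ = inl g.left * (inr g.right * autHat α * (inr g.right)⁻¹) * (inl g.left)⁻¹ := by group
    _ = inl g.left * autHat α * (inl g.left)⁻¹ := by rw [h2]

theorem iterConj_autHat_subset :
    ∀ j, ∀ x ∈ IterConj (autHat α) j, ∃ c : G, x = inl (f^[j + 1] c) * autHat α
  | 0 => by
    rintro x ⟨g, rfl⟩
    exact ⟨g.left, by rw [conj_autHat α f hf]; rfl⟩
  | (j + 1) => by
    rintro x ⟨s, hs, rfl⟩
    obtain ⟨c, rfl⟩ := iterConj_autHat_subset j s hs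
    refine ⟨c, ?_⟩
    rw [conj_autHat α f hf, left_inl_mul_autHat, ← Function.iterate_succ_apply' f (j + 1) c]

theorem normalClosure_autHat (hG : Subgroup.closure (Set.range f) = ⊤) :
    Subgroup.normalClosure {autHat α} = ⊤ := by
  have ha : autHat α ∈ Subgroup.normalClosure {autHat α} := Subgroup.subset_normalClosure rfl
  have h1 : ∀ c : G, (inl c : AutSd α) ∈ Subgroup.normalClosure {autHat α} := by
    have h2 : Subgroup.closure (Set.range f) ≤
        (Subgroup.normalClosure {autHat α}).comap (inl : G →* AutSd α) := by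
      rw [Subgroup.closure_le]
      rintro x ⟨c, rfl⟩
      show (inl (f c) : AutSd α) ∈ Subgroup.normalClosure {autHat α}
      have h3 : (inl c : AutSd α) * autHat α * (inl c)⁻¹ ∈ Subgroup.normalClosure {autHat α} :=
        Subgroup.normalClosure_normal.conj_mem _ ha _
      rw [inl_conj_autHat α f hf] at h3
      exact (Subgroup.mul_mem_cancel_right _ ha).1 h3
    intro c
    have : c ∈ Subgroup.closure (Set.range f) := by rw [hG]; trivial
    exact h2 this
  have h4 : ∀ z : ↥(Subgroup.zpowers α), (inr z : AutSd α) ∈ Subgroup.normalClosure {autHat α} := by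
    intro z
    obtain ⟨k, hk⟩ := Subgroup.mem_zpowers_iff.1 z.2
    have : z = (⟨α, Subgroup.mem_zpowers α⟩ : ↥(Subgroup.zpowers α)) ^ k := by
      apply Subtype.ext
      rw [Subgroup.coe_zpow, ← hk]
    rw [this, map_zpow]
    exact Subgroup.zpow_mem _ ha k
  rw [eq_top_iff]
  intro γ _
  rw [← inl_left_mul_inr_right γ]
  exact Subgroup.mul_mem _ (h1 _) (h4 _)

theorem aut_map_mem_closure [Finite G] (k : ℕ) :
    ∀ z ∈ Subgroup.zpowers α, ∀ x ∈ Subgroup.closure (Set.range f^[k]),
      z x ∈ Subgroup.closure (Set.range f^[k]) := by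
  have hcomm : Function.Commute (⇑α) f := by
    intro c
    rw [hf, hf, map_mul, map_inv]
  have hcommk : Function.Commute (⇑α) f^[k] := hcomm.iterate_right k
  have h1 : ∀ x ∈ Subgroup.closure (Set.range f^[k]), α x ∈ Subgroup.closure (Set.range f^[k]) := by
    intro x hx
    induction hx using Subgroup.closure_induction with
    | mem y hy =>
      obtain ⟨c, rfl⟩ := hy
      rw [hcommk c]
      exact Subgroup.subset_closure ⟨α c, rfl⟩
    | one => rw [map_one]; exact Subgroup.one_mem _
    | mul a b _ _ ha hb => rw [map_mul]; exact Subgroup.mul_mem _ ha hb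
    | inv a _ ha => rw [map_inv]; exact Subgroup.inv_mem _ ha
  have h2 : ∀ n : ℕ, ∀ x ∈ Subgroup.closure (Set.range f^[k]),
      (α ^ n) x ∈ Subgroup.closure (Set.range f^[k]) := by
    intro n
    induction n with
    | zero => intro x hx; simpa using hx
    | succ n ih =>
      intro x hx
      rw [pow_succ, MulAut.mul_apply]
      exact ih _ (h1 x hx)
  intro z hz x hx
  obtain ⟨n, rfl⟩ := (mem_powers_iff_mem_zpowers.2 hz)
  exact h2 n x hx

/-- If the commutators `c * (α c)⁻¹` generate the finite group `G`, so do the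
`k`-fold iterated commutators, `k ≥ 1`. -/
theorem aut_iter_closure [Finite G] (hG : Subgroup.closure (Set.range f) = ⊤) (k : ℕ)
    (hk : 1 ≤ k) : Subgroup.closure (Set.range f^[k]) = ⊤ := by
  have : Finite (AutSd α) := autSd_finite α
  obtain ⟨j, rfl⟩ : ∃ j, k = j + 1 := ⟨k - 1, by omega⟩
  have hcl := closure_iterConj (autHat α) (normalClosure_autHat α f hf hG) j
  have hinv := aut_map_mem_closure α f hf (j + 1)
  let S : Subgroup (AutSd α) :=
    { carrier := {γ | γ.left ∈ Subgroup.closure (Set.range f^[j + 1])}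
      one_mem' := by
        show (1 : AutSd α).left ∈ Subgroup.closure (Set.range f^[j + 1])
        exact Subgroup.one_mem _
      mul_mem' := by
        intro a b ha hb
        show (a * b).left ∈ Subgroup.closure (Set.range f^[j + 1])
        rw [mul_left]
        exact Subgroup.mul_mem _ ha (hinv _ a.right.2 _ hb)
      inv_mem' := by
        intro a ha
        show (a⁻¹).left ∈ Subgroup.closure (Set.range f^[j + 1])
        rw [inv_left]
        exact hinv _ (a.right⁻¹).2 _ (Subgroup.inv_mem _ ha) }
  have hle : Subgroup.closure (IterConj (autHat α) j) ≤ S := by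
    rw [Subgroup.closure_le]
    intro x hx
    obtain ⟨c, rfl⟩ := iterConj_autHat_subset α f hf j x hx
    show ((inl (f^[j + 1] c) : AutSd α) * autHat α).left ∈ Subgroup.closure (Set.range f^[j + 1])
    rw [left_inl_mul_autHat]
    exact Subgroup.subset_closure ⟨c, rfl⟩
  rw [hcl] at hle
  rw [eq_top_iff]
  intro c _
  have : (inl c : AutSd α) ∈ S := hle trivial
  exact this

end AutIter

end Cfsg.Agent.Helper9.GenZipper
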