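import Mathlib
import Cfsg.Agent.Helper9.GenZipper.IterConj

set_option autoImplicit false

/-!
The graph on a conjugacy class of involutions in which two involutions are joined when
their product has odd order: if the class generates the (finite) group, the graph is
connected.  Consequence of `closure_iterConj`: the group is generated by the closed
neighbourhood of any vertex.
-/

namespace Cfsg.Agent.Helper9.GenZipper

universe u

section InvGraph

variable {G : Type u} [Group G]

theorem isConj_of_mem_iterConj (a : G) : ∀ j, ∀ x ∈ IterConj a j, IsConj a x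
  | 0 => by
    rintro x ⟨g, rfl⟩
    exact isConj_iff.2 ⟨g, rfl⟩
  | (j + 1) => by
    rintro x ⟨s, _, rfl⟩
    exact isConj_iff.2 ⟨s, rfl⟩

/-- the iterated conjugates of an involution `t` are `t (t e)^(2^j)`, `e` a conjugate of `t` -/
theorem iterConj_involution (t : G) (ht : t * t = 1) :
    ∀ j, ∀ x ∈ IterConj t j, ∃ g : G, x = t * (t * (g * t * g⁻¹)) ^ (2 ^ j)
  | 0 => by
    rintro x ⟨g, rfl⟩
    refine ⟨g, ?_⟩
    rw [pow_zero, pow_one, ← mul_assoc t t, ht, one_mul]
  | (j + 1) => by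
    rintro x ⟨s, hs, rfl⟩
    obtain ⟨g, rfl⟩ := iterConj_involution t ht j s hs
    refine ⟨g, ?_⟩
    have hti : t⁻¹ = t := inv_eq_of_mul_eq_one_left ht
    have hee : (g * t * g⁻¹) * (g * t * g⁻¹) = 1 := by
      have : (g * t * g⁻¹) * (g * t * g⁻¹) = g * (t * t) * g⁻¹ := by group
      rw [this, ht, mul_one, mul_inv_cancel]
    have hei : (g * t * g⁻¹)⁻¹ = g * t * g⁻¹ := inv_eq_of_mul_eq_one_left hee
    have hy : t * (t * (g * t * g⁻¹)) * t⁻¹ = (t * (g * t * g⁻¹))⁻¹ := by
      rw [mul_inv_rev, hei, ← mul_assoc t t, ht, one_mul]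
    have hw : t * (t * (g * t * g⁻¹)) ^ (2 ^ j) * t⁻¹ = ((t * (g * t * g⁻¹)) ^ (2 ^ j))⁻¹ := by
      rw [← conj_pow, hy, inv_pow]
    rw [pow_succ 2 j, pow_mul, pow_two]
    generalize (t * (g * t * g⁻¹)) ^ (2 ^ j) = w at hw ⊢
    rw [hti] at hw
    have h1 : w * t = t * w⁻¹ := by
      rw [← hw, ← mul_assoc, ← mul_assoc, ht, one_mul]
    have h2 : w⁻¹ * t = t * w := by
      have : w⁻¹ * (w * t) * w = w⁻¹ * (t * w⁻¹) * w := by rw [h1]
      simpa [mul_assoc] using this.symm
    calc t * w * t * (t * w)⁻¹ = t * (w * t) * (w⁻¹ * t⁻¹) := by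
          rw [mul_inv_rev]; simp only [mul_assoc]
      _ = t * (t * w⁻¹) * (w⁻¹ * t) := by rw [h1, hti]
      _ = w⁻¹ * (w⁻¹ * t) := by
          rw [← mul_assoc t t, ht, one_mul]
      _ = w⁻¹ * (t * w) := by rw [h2]
      _ = t * w * w := by rw [← mul_assoc, h2]
      _ = t * (w * w) := by rw [mul_assoc]

theorem odd_orderOf_pow_two_pow_card [Finite G] (y : G) :
    Odd (orderOf (y ^ (2 ^ Nat.card G))) := by
  have ho : orderOf y ≠ 0 := (orderOf_pos y).ne'
  obtain ⟨k, b, hb, hkb⟩ := Nat.exists_eq_two_pow_mul_odd ho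
  have hk : k ≤ Nat.card G := by
    have h1 : 2 ^ k ≤ orderOf y := by
      rw [hkb]
      exact Nat.le_mul_of_pos_right _ hb.pos
    have h2 : orderOf y ≤ Nat.card G := orderOf_le_card
    have h3 : k < 2 ^ k := Nat.lt_two_pow_self
    omega
  have hpow : (y ^ (2 ^ Nat.card G)) ^ b = 1 := by
    rw [← pow_mul]
    apply orderOf_dvd_iff_pow_eq_one.1
    rw [hkb]
    exact mul_dvd_mul_right (pow_dvd_pow 2 hk) b
  exact Odd.of_dvd_nat hb (orderOf_dvd_of_pow_eq_one hpow)

/-- the closed neighbourhood of the involution `t` generates the group -/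
theorem closure_oddNbhd [Finite G] (t : G) (ht : t * t = 1)
    (hn : Subgroup.normalClosure {t} = ⊤) :
    Subgroup.closure {e : G | IsConj t e ∧ Odd (orderOf (t * e))} = ⊤ := by
  rw [eq_top_iff, ← closure_iterConj t hn (Nat.card G)]
  apply Subgroup.closure_mono
  intro x hx
  refine ⟨isConj_of_mem_iterConj t _ x hx, ?_⟩
  obtain ⟨g, rfl⟩ := iterConj_involution t ht _ x hx
  rw [← mul_assoc, ht, one_mul]
  exact odd_orderOf_pow_two_pow_card _

theorem invGraph_connected [Finite G] (t : G) (ht : orderOf t = 2)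
    (hn : Subgroup.normalClosure {t} = ⊤) :
    (SimpleGraph.fromRel fun x y : {x : G // IsConj t x} => Odd (orderOf (x.1 * y.1))).Connected := by
  have htt : t * t = 1 := by rw [← sq, ← ht, pow_orderOf_eq_one]
  have hΛ : ∀ x y : {x : G // IsConj t x},
      (SimpleGraph.fromRel fun x y : {x : G // IsConj t x} => Odd (orderOf (x.1 * y.1))).Adj x y ↔
        x ≠ y ∧ (Odd (orderOf (x.1 * y.1)) ∨ Odd (orderOf (y.1 * x.1))) :=
    fun x y => SimpleGraph.fromRel_adj _ x y
  generalize (SimpleGraph.fromRel fun x y : {x : G // IsConj t x} => Odd (orderOf (x.1 * y.1))) = Λ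
    at hΛ ⊢
  let t₀ : {x : G // IsConj t x} := ⟨t, IsConj.refl t⟩
  let cj : G → {x : G // IsConj t x} → {x : G // IsConj t x} :=
    fun g x => ⟨g * x.1 * g⁻¹, x.2.trans (isConj_iff.2 ⟨g, rfl⟩)⟩
  have hcj_val : ∀ g x, (cj g x).1 = g * x.1 * g⁻¹ := fun _ _ => rfl
  have hord : ∀ (g a b : G), orderOf ((g * a * g⁻¹) * (g * b * g⁻¹)) = orderOf (a * b) := by
    intro g a b
    have h1 : (g * a * g⁻¹) * (g * b * g⁻¹) = MulAut.conj g (a * b) := by
      rw [MulAut.conj_apply]; group
    rw [h1, MulEquiv.orderOf_eq]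
  have hadj : ∀ g x y, Λ.Adj x y → Λ.Adj (cj g x) (cj g y) := by
    intro g x y h
    rw [hΛ] at h ⊢
    obtain ⟨hne, hor⟩ := h
    refine ⟨?_, ?_⟩
    · intro heq
      apply hne
      apply Subtype.ext
      have h2 := congrArg Subtype.val heq
      rw [hcj_val, hcj_val] at h2
      exact mul_left_cancel (mul_right_cancel h2)
    · rw [hcj_val, hcj_val, hord, hord]
      exact hor
  have hreach : ∀ g x y, Λ.Reachable x y → Λ.Reachable (cj g x) (cj g y) := by
    intro g x y h
    rw [SimpleGraph.reachable_iff_reflTransGen] at h ⊢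
    exact Relation.ReflTransGen.lift (cj g) (fun a b hab => hadj g a b hab) x y h
  have hcj_mul : ∀ g h x, cj (g * h) x = cj g (cj h x) := by
    intro g h x
    apply Subtype.ext
    rw [hcj_val, hcj_val, hcj_val, mul_inv_rev]
    simp only [mul_assoc]
  have hcj_one : ∀ x, cj 1 x = x := by
    intro x
    apply Subtype.ext
    rw [hcj_val, one_mul, inv_one, mul_one]
  have hP : ∀ g : G, Λ.Reachable t₀ (cj g t₀) := by
    intro g
    have hg : g ∈ Subgroup.closure {e : G | IsConj t e ∧ Odd (orderOf (t * e))} := by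
      rw [closure_oddNbhd t htt hn]; trivial
    induction hg using Subgroup.closure_induction with
    | mem e he =>
      obtain ⟨hconj, hodd⟩ := he
      by_cases heq : t₀ = cj e t₀
      · rw [← heq]
      · apply SimpleGraph.Adj.reachable
        rw [hΛ]
        refine ⟨heq, Or.inl ?_⟩
        rw [hcj_val]
        show Odd (orderOf (t * (e * t * e⁻¹)))
        obtain ⟨c, rfl⟩ := isConj_iff.1 hconj
        have hee : (c * t * c⁻¹) * (c * t * c⁻¹) = 1 := by
          have : (c * t * c⁻¹) * (c * t * c⁻¹) = c * (t * t) * c⁻¹ := by group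
          rw [this, htt, mul_one, mul_inv_cancel]
        have hei : (c * t * c⁻¹)⁻¹ = c * t * c⁻¹ := inv_eq_of_mul_eq_one_left hee
        rw [hei]
        have : t * (c * t * c⁻¹ * t * (c * t * c⁻¹)) = (t * (c * t * c⁻¹)) ^ 2 := by
          rw [pow_two]; simp only [mul_assoc]
        rw [this]
        exact Odd.of_dvd_nat hodd (orderOf_pow_dvd 2)
    | one => rw [hcj_one]
    | mul a b _ _ ha hb =>
      rw [hcj_mul]
      exact ha.trans (hreach a _ _ hb)
    | inv a _ ha =>
      have h1 := hreach a⁻¹ _ _ ha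
      rw [← hcj_mul, inv_mul_cancel, hcj_one] at h1
      exact h1.symm
  rw [SimpleGraph.connected_iff]
  refine ⟨?_, ⟨t₀⟩⟩
  intro x y
  have hx : Λ.Reachable t₀ x := by
    obtain ⟨c, hc⟩ := isConj_iff.1 x.2
    have : x = cj c t₀ := Subtype.ext hc.symm
    rw [this]; exact hP c
  have hy : Λ.Reachable t₀ y := by
    obtain ⟨c, hc⟩ := isConj_iff.1 y.2
    have : y = cj c t₀ := Subtype.ext hc.symm
    rw [this]; exact hP c
  exact hx.symm.trans hy

end InvGraph

end Cfsg.Agent.Helper9.GenZipper
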